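import Mathlib

/-!
# Kreknin and Higman: `ℤ/p`-graded Lie rings with trivial zero component
-/

set_option autoImplicit false
set_option linter.style.haveILetI false

namespace Cfsg.Agent.LieFpf

variable {M : Type*} [LieRing M] {p : ℕ}

/-- A graded family closed under brackets. -/
structure Graded (F : ZMod p → AddSubgroup M) : Prop where
  zero : F 0 = ⊥
  mul : ∀ a b, ∀ x ∈ F a, ∀ y ∈ F b, ⁅x, y⁆ ∈ F (a + b)

/-- The derived family. -/
def T (F : ZMod p → AddSubgroup M) (c : ZMod p) : AddSubgroup M :=
  AddSubgroup.closure {z | ∃ a b, a + b = c ∧ ∃ x ∈ F a, ∃ y ∈ F b, ⁅x, y⁆ = z}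

/-- Iterated derived family. -/
def D (F : ZMod p → AddSubgroup M) : ℕ → ZMod p → AddSubgroup M
  | 0 => F
  | n + 1 => T (D F n)

theorem D_add (F : ZMod p → AddSubgroup M) (m : ℕ) : ∀ n, D F (m + n) = D (D F m) n := by
  intro n
  induction n with
  | zero => rfl
  | succ n ih => show T (D F (m + n)) = T (D (D F m) n); rw [ih]

theorem mem_T {F : ZMod p → AddSubgroup M} {a b : ZMod p} {x y : M} (hx : x ∈ F a) (hy : y ∈ F b) :
    ⁅x, y⁆ ∈ T F (a + b) :=
  AddSubgroup.subset_closure ⟨a, b, rfl, x, hx, y, hy, rfl⟩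

theorem Graded.T_le {F : ZMod p → AddSubgroup M} (hF : Graded F) (c : ZMod p) : T F c ≤ F c := by
  refine (AddSubgroup.closure_le _).mpr ?_
  rintro _ ⟨a, b, rfl, x, hx, y, hy, rfl⟩
  exact hF.mul a b x hx y hy

theorem Graded.derived {F : ZMod p → AddSubgroup M} (hF : Graded F) : Graded (T F) :=
  ⟨le_bot_iff.mp ((hF.T_le 0).trans hF.zero.le), fun _ _ _ hx _ hy =>
    mem_T (hF.T_le _ hx) (hF.T_le _ hy)⟩

theorem Graded.iterate {F : ZMod p → AddSubgroup M} (hF : Graded F) : ∀ n, Graded (D F n)
  | 0 => hF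
  | n + 1 => (hF.iterate n).derived

theorem Graded.D_le {F : ZMod p → AddSubgroup M} (hF : Graded F) (n : ℕ) (c : ZMod p) : D F n c ≤ F c := by
  induction n with
  | zero => exact le_rfl
  | succ n ih => exact ((hF.iterate n).T_le c).trans ih

theorem T_mono {F G : ZMod p → AddSubgroup M} (h : ∀ c, F c ≤ G c) (c : ZMod p) : T F c ≤ T G c := by
  refine AddSubgroup.closure_mono ?_
  rintro z ⟨a, b, e, x, hx, y, hy, hz⟩
  exact ⟨a, b, e, x, h a hx, y, h b hy, hz⟩

theorem bracket_closure_left {S : Set M} {H : AddSubgroup M} {y : M} (h : ∀ x ∈ S, ⁅x, y⁆ ∈ H) :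
    ∀ x ∈ AddSubgroup.closure S, ⁅x, y⁆ ∈ H := by
  intro x hx
  induction hx using AddSubgroup.closure_induction with
  | mem x hx => exact h x hx
  | zero => simp
  | add a b _ _ ha hb => rw [add_lie]; exact add_mem ha hb
  | neg a _ ha => rw [neg_lie]; exact neg_mem ha

theorem bracket_closure_right {S : Set M} {H : AddSubgroup M} {x : M} (h : ∀ y ∈ S, ⁅x, y⁆ ∈ H) :
    ∀ y ∈ AddSubgroup.closure S, ⁅x, y⁆ ∈ H := by
  intro y hy
  induction hy using AddSubgroup.closure_induction with
  | mem y hy => exact h y hy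
  | zero => simp
  | add a b _ _ ha hb => rw [lie_add]; exact add_mem ha hb
  | neg a _ ha => rw [lie_neg]; exact neg_mem ha

/-! ### Kreknin -/

variable [Fact p.Prime]

/-- Left-normed words in the generators of degree `> k`. -/
inductive W (F : ZMod p → AddSubgroup M) (k : ℕ) : ZMod p → M → Prop
  | base {a : ZMod p} {x : M} (ha : k < a.val) (hx : x ∈ F a) : W F k a x
  | step {a b : ZMod p} {w g : M} (hw : W F k a w) (hb : k < b.val) (hg : g ∈ F b) : W F k (a + b) ⁅w, g⁆

/-- The span of the words of given degree. -/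
def Sp (F : ZMod p → AddSubgroup M) (k : ℕ) (c : ZMod p) : AddSubgroup M :=
  AddSubgroup.closure {z | W F k c z}

theorem W_mem {F : ZMod p → AddSubgroup M} (hF : Graded F) {k : ℕ} {a : ZMod p} {w : M} (h : W F k a w) :
    w ∈ F a := by
  induction h with
  | base _ hx => exact hx
  | step _ _ hg ih => exact hF.mul _ _ _ ih _ hg

theorem Sp_bracket {F : ZMod p → AddSubgroup M} {k : ℕ} {a b : ZMod p} {x y : M}
    (hx : x ∈ Sp F k a) (hy : y ∈ Sp F k b) : ⁅x, y⁆ ∈ Sp F k (a + b) := by
  refine bracket_closure_right (S := {z | W F k b z}) (fun w hw => ?_) y hy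
  clear hy y
  induction hw generalizing a x with
  | @base b g hb hg =>
    refine bracket_closure_left (S := {z | W F k a z}) (fun v hv => ?_) x hx
    exact AddSubgroup.subset_closure (W.step hv hb hg)
  | @step b₁ b₂ w g hw hb hg ih =>
    have hg' : ∀ {d : ZMod p} {u : M}, u ∈ Sp F k d → ⁅u, g⁆ ∈ Sp F k (d + b₂) := fun {d} {u} hu =>
      bracket_closure_left (S := {z | W F k d z})
        (fun v hv => AddSubgroup.subset_closure (W.step hv hb hg)) u hu
    have e : ⁅x, ⁅w, g⁆⁆ = ⁅⁅x, w⁆, g⁆ - ⁅⁅x, g⁆, w⁆ := by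
      rw [leibniz_lie x w g, ← lie_skew w ⁅x, g⁆]; abel
    rw [e]
    refine sub_mem ?_ ?_
    · rw [← add_assoc]; exact hg' (ih hx)
    · rw [show a + (b₁ + b₂) = a + b₂ + b₁ by ring]; exact ih (hg' hx)

/-- The number of derivations in Kreknin's induction. -/
theorem kreknin_step (k : ℕ) : ∀ (F : ZMod p → AddSubgroup M), Graded F → ∀ c : ZMod p,
    D F (2 ^ k - 1) c ≤ Sp F k c := by
  induction k with
  | zero =>
    intro F hF c x hx
    change x ∈ F c at hx
    rcases Nat.eq_zero_or_pos c.val with h | h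
    · have : c = 0 := (ZMod.val_eq_zero c).mp h
      subst this
      rw [hF.zero, AddSubgroup.mem_bot] at hx
      subst hx; exact zero_mem _
    · exact AddSubgroup.subset_closure (W.base h hx)
  | succ k ih =>
    intro F hF
    have e1 : 2 ^ (k + 1) - 1 = (2 ^ k - 1 + 1) + (2 ^ k - 1) := by
      have := Nat.one_le_two_pow (n := k)
      rw [pow_succ]; omega
    rw [e1, D_add]
    set I := D F (2 ^ k - 1 + 1) with hI
    have hIG : Graded I := hF.iterate _
    -- generators of `I` of degree `> k` lie in `Sp F (k + 1)`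
    have hgen : ∀ a : ZMod p, k < a.val → I a ≤ Sp F (k + 1) a := by
      intro a ha
      rcases lt_or_eq_of_le (Nat.succ_le_of_lt ha) with h | h
      · exact fun x hx => AddSubgroup.subset_closure (W.base h (hF.D_le _ _ hx))
      · refine (AddSubgroup.closure_le _).mpr ?_
        rintro _ ⟨a₁, a₂, e, x, hx, y, hy, rfl⟩
        have hx' := ih F hF a₁ hx
        have hy' := ih F hF a₂ hy
        refine bracket_closure_right (S := {z | W F k a₂ z}) (fun w hw => ?_) y hy'
        clear hy' hy y hx
        induction hw generalizing a₁ x with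
        | @base b g hb hg =>
          refine bracket_closure_left (S := {z | W F k a₁ z}) (fun v hv => ?_) x hx'
          exact last_step hF (show k + 1 = a.val from h) e (W_mem hF hv) hb hg
        | @step b₁ b₂ w g hw hb hg ihw =>
          have hwF := W_mem hF hw
          have hxF : x ∈ F a₁ := (AddSubgroup.closure_le _).mpr (fun v hv => W_mem hF hv) hx'
          have e' : ⁅x, ⁅w, g⁆⁆ = ⁅⁅x, w⁆, g⁆ - ⁅⁅x, g⁆, w⁆ := by
            rw [leibniz_lie x w g, ← lie_skew w ⁅x, g⁆]; abel
          rw [e']
          refine sub_mem (last_step hF h (by rw [← e]; ring) (hF.mul _ _ _ hxF _ hwF) hb hg) ?_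
          refine ihw (a₁ + b₂) (by rw [← e]; ring) ⁅x, g⁆ ?_
          exact bracket_closure_left (S := {z | W F k a₁ z})
            (fun v hv => AddSubgroup.subset_closure (W.step hv hb hg)) x hx'
    intro c
    refine (ih I hIG c).trans ((AddSubgroup.closure_le _).mpr ?_)
    intro w hw
    induction hw with
    | base ha hx => exact hgen _ ha hx
    | step hw hb hg ihw => exact Sp_bracket ihw (hgen _ hb hg)
where
  last_step {F : ZMod p → AddSubgroup M} (hF : Graded F) {k : ℕ} {a a₁ b : ZMod p} {v g : M}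
      (h : k + 1 = a.val) (e : a₁ + b = a) (hv : v ∈ F a₁) (hb : k < b.val) (hg : g ∈ F b) :
      ⁅v, g⁆ ∈ Sp F (k + 1) a := by
    rcases lt_or_eq_of_le (Nat.succ_le_of_lt hb) with h' | h'
    · have ha1 : k + 1 < a₁.val := by
        have hv' := congrArg ZMod.val e
        rw [ZMod.val_add, ← h] at hv'
        by_contra hle
        have h1 := b.val_lt
        rcases lt_or_ge (a₁.val + b.val) p with h2 | h2
        · rw [Nat.mod_eq_of_lt h2] at hv'; omega
        · rw [Nat.mod_eq_sub_mod h2, Nat.mod_eq_of_lt (by have := a₁.val_lt; omega)] at hv'; omega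
      rw [← e]
      exact AddSubgroup.subset_closure (W.step (W.base ha1 hv) h' hg)
    · have : b = a := ZMod.val_injective p (h'.symm.trans h)
      rw [this, add_eq_right] at e
      subst e
      rw [hF.zero, AddSubgroup.mem_bot] at hv
      subst hv
      simp

/-- Kreknin: the derived length is at most `2^(p-1) - 1`. -/
theorem kreknin {F : ZMod p → AddSubgroup M} (hF : Graded F) (c : ZMod p) : D F (2 ^ (p - 1) - 1) c = ⊥ := by
  refine le_bot_iff.mp ((kreknin_step (p - 1) F hF c).trans ((AddSubgroup.closure_le _).mpr fun w hw => ?_))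
  exfalso
  have hlt : ∀ a : ZMod p, ¬ p - 1 < a.val := fun a h => by have := a.val_lt; omega
  induction hw with
  | base ha _ => exact hlt _ ha
  | step _ hb _ _ => exact hlt _ hb

/-! ### Higman -/

/-- The lower central family. -/
def C (F : ZMod p → AddSubgroup M) : ℕ → ZMod p → AddSubgroup M
  | 0 => F
  | n + 1 => fun c => AddSubgroup.closure {z | ∃ a b, a + b = c ∧ ∃ x ∈ C F n a, ∃ y ∈ F b, ⁅x, y⁆ = z}

theorem mem_C {F : ZMod p → AddSubgroup M} {n : ℕ} {a b : ZMod p} {x y : M} (hx : x ∈ C F n a) (hy : y ∈ F b) :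
    ⁅x, y⁆ ∈ C F (n + 1) (a + b) :=
  AddSubgroup.subset_closure ⟨a, b, rfl, x, hx, y, hy, rfl⟩

theorem C_le_prev {F : ZMod p → AddSubgroup M} (hF : Graded F) : ∀ n c, C F (n + 1) c ≤ C F n c := by
  intro n
  induction n with
  | zero => exact fun c => hF.T_le c
  | succ n ih =>
    intro c
    refine AddSubgroup.closure_mono ?_
    rintro z ⟨a, b, e, x, hx, y, hy, hz⟩
    exact ⟨a, b, e, x, ih a hx, y, hy, hz⟩

theorem C_anti {F : ZMod p → AddSubgroup M} (hF : Graded F) {m n : ℕ} (h : m ≤ n) (c : ZMod p) :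
    C F n c ≤ C F m c := by
  induction h with
  | refl => exact le_rfl
  | step _ ih => exact (C_le_prev hF _ c).trans ih

theorem C_bracket {F : ZMod p → AddSubgroup M} : ∀ (j i : ℕ) {a b : ZMod p} {x y : M},
    x ∈ C F i a → y ∈ C F j b → ⁅x, y⁆ ∈ C F (i + j + 1) (a + b) := by
  intro j
  induction j with
  | zero => intro i a b x y hx hy; exact mem_C hx hy
  | succ j ih =>
    intro i a b x y hx hy
    refine bracket_closure_right (fun z hz => ?_) y hy
    obtain ⟨b₁, b₂, rfl, w, hw, g, hg, rfl⟩ := hz
    have e' : ⁅x, ⁅w, g⁆⁆ = ⁅⁅x, w⁆, g⁆ - ⁅⁅x, g⁆, w⁆ := by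
      rw [leibniz_lie x w g, ← lie_skew w ⁅x, g⁆]; abel
    rw [e']
    refine sub_mem ?_ ?_
    · rw [← add_assoc a b₁ b₂]; exact mem_C (ih i hx hw) hg
    · rw [show a + (b₁ + b₂) = a + b₂ + b₁ by ring, show i + (j + 1) + 1 = i + 1 + j + 1 by ring]
      exact ih (i + 1) (mem_C hx hg) hw

theorem D_ideal {F : ZMod p → AddSubgroup M} (hF : Graded F) : ∀ (n : ℕ) {a b : ZMod p} {x y : M},
    x ∈ D F n a → y ∈ F b → ⁅x, y⁆ ∈ D F n (a + b) := by
  intro n
  induction n with
  | zero => intro a b x y hx hy; exact hF.mul a b x hx y hy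
  | succ n ih =>
    intro a b x y hx hy
    refine bracket_closure_left (fun z hz => ?_) x hx
    obtain ⟨a₁, a₂, rfl, u, hu, v, hv, rfl⟩ := hz
    have e' : ⁅⁅u, v⁆, y⁆ = ⁅u, ⁅v, y⁆⁆ + ⁅⁅u, y⁆, v⁆ := by
      rw [leibniz_lie u v y, ← lie_skew v ⁅u, y⁆]; abel
    rw [e']
    refine add_mem ?_ ?_
    · rw [add_assoc]; exact mem_T hu (ih hv hy)
    · rw [show a₁ + a₂ + b = a₁ + b + a₂ by ring]; exact mem_T (ih hu hy) hv

/-- A homogeneous factor. -/
structure Fac (F : ZMod p → AddSubgroup M) where
  wt : ℕ
  deg : ZMod p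
  val : M
  mem : val ∈ C F wt deg

/-- The product of `v` with a list of factors. -/
def act {F : ZMod p → AddSubgroup M} (v : M) (l : List (Fac F)) : M := l.foldl (fun z f => ⁅z, f.val⁆) v

/-- The degree of a list. -/
def degs {F : ZMod p → AddSubgroup M} (l : List (Fac F)) : ZMod p := (l.map Fac.deg).sum

/-- The weight of a list. -/
def wts {F : ZMod p → AddSubgroup M} (l : List (Fac F)) : ℕ := (l.map fun f => f.wt + 1).sum

theorem act_append {F : ZMod p → AddSubgroup M} (v : M) (l l' : List (Fac F)) :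
    act v (l ++ l') = act (act v l) l' := List.foldl_append

theorem act_zero {F : ZMod p → AddSubgroup M} (l : List (Fac F)) : act (0 : M) l = 0 := by
  induction l with
  | nil => rfl
  | cons f l ih => show act ⁅(0 : M), f.val⁆ l = 0; rw [zero_lie]; exact ih

theorem act_sub {F : ZMod p → AddSubgroup M} (u v : M) : ∀ l : List (Fac F), act (u - v) l = act u l - act v l := by
  intro l
  induction l generalizing u v with
  | nil => rfl
  | cons f l ih => show act ⁅u - v, f.val⁆ l = _; rw [sub_lie]; exact ih _ _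

theorem act_mem {F : ZMod p → AddSubgroup M} (hF : Graded F) (j : ℕ) : ∀ (l : List (Fac F)) {a : ZMod p} {v : M},
    v ∈ D F j a → act v l ∈ D F j (a + degs l) := by
  intro l
  induction l with
  | nil => intro a v hv; simpa [degs, act] using hv
  | cons f l ih =>
    intro a v hv
    have := ih (D_ideal hF j hv (C_anti hF (Nat.zero_le f.wt) _ f.mem))
    rw [show a + degs (f :: l) = a + f.deg + degs l by simp [degs]; ring]
    exact this

theorem act_cons {F : ZMod p → AddSubgroup M} (v : M) (f : Fac F) (l : List (Fac F)) :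
    act v (f :: l) = act ⁅v, f.val⁆ l := rfl

/-- The subset sums of nonzero residues grow until they cover everything. -/
theorem exists_sublist_sum (l : List (ZMod p)) (hl : ∀ d ∈ l, d ≠ 0) :
    ∃ S : Finset (ZMod p), min p (l.length + 1) ≤ S.card ∧ ∀ s ∈ S, ∃ t, List.Sublist t l ∧ t.sum = s := by
  classical
  induction l with
  | nil => exact ⟨{0}, by simp, fun s hs => ⟨[], List.Sublist.refl _, by simpa using (Finset.mem_singleton.mp hs).symm⟩⟩
  | cons d l ih =>
    obtain ⟨S, hS, hs⟩ := ih fun e he => hl e (List.mem_cons_of_mem _ he)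
    refine ⟨S ∪ S.image (d + ·), ?_, fun s h => ?_⟩
    · by_contra hlt
      push_neg at hlt
      have h1 : S ⊆ S ∪ S.image (d + ·) := Finset.subset_union_left
      have h2 := Finset.card_le_card h1
      have heq : S.image (d + ·) ⊆ S := by
        have h3 : S ∪ S.image (d + ·) = S := (Finset.eq_of_subset_of_card_le h1 (by simp at hlt ⊢; omega)).symm
        exact fun z hz => h3 ▸ Finset.mem_union_right _ hz
      have hne : S.Nonempty := Finset.card_pos.mp (by have := (Fact.out : p.Prime).pos; omega)
      obtain ⟨s, hs'⟩ := hne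
      have hmul : ∀ m : ℕ, (m : ZMod p) * d + s ∈ S := by
        intro m
        induction m with
        | zero => simpa using hs'
        | succ m ihm =>
          have := heq (Finset.mem_image_of_mem (d + ·) ihm)
          simpa [add_mul, add_comm, add_left_comm, add_assoc] using this
      have hall : ∀ z : ZMod p, z ∈ S := fun z => by
        have := hmul ((z - s) * d⁻¹).val
        rw [ZMod.natCast_val, ZMod.cast_id, mul_assoc, inv_mul_cancel₀ (hl d (List.mem_cons_self ..)), mul_one,
          sub_add_cancel] at this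
        exact this
      have : S = Finset.univ := Finset.eq_univ_iff_forall.mpr hall
      rw [this, Finset.card_univ, ZMod.card] at h2
      rw [← this] at h2
      rw [List.length_cons] at hlt
      omega
    · rcases Finset.mem_union.mp h with h | h
      · obtain ⟨t, ht, e⟩ := hs s h; exact ⟨t, ht.cons _, e⟩
      · obtain ⟨r, hr, rfl⟩ := Finset.mem_image.mp h
        obtain ⟨t, ht, e⟩ := hs r hr
        exact ⟨d :: t, ht.cons_cons _, by simp [e]⟩

theorem sublist_perm {α : Type*} {t l : List α} (h : List.Sublist t l) : ∃ r, List.Perm (t ++ r) l := by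
  induction h with
  | slnil => exact ⟨[], List.Perm.refl _⟩
  | cons a _ ih =>
    obtain ⟨r, hr⟩ := ih
    exact ⟨a :: r, List.perm_middle.trans (hr.cons a)⟩
  | cons_cons a _ ih =>
    obtain ⟨r, hr⟩ := ih
    exact ⟨r, hr.cons a⟩

/-- Products of large weight vanish modulo the next derived term. -/
theorem act_large {F : ZMod p → AddSubgroup M} (hF : Graded F) {j c : ℕ}
    (hc : ∀ a, C F c a ≤ D F j a) : ∀ (m : ℕ) (l : List (Fac F)), l.length = m → l ≠ [] →
    (p - 2) * c < wts l → ∀ {a : ZMod p} {v : M}, v ∈ D F j a → act v l ∈ D F (j + 1) (a + degs l) := by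
  intro m
  induction m using Nat.strong_induction_on with
  | _ m ih =>
    intro l hlen hne hw a v hv
    classical
    have hD1 : Graded (D F (j + 1)) := hF.iterate _
    by_cases hbig : ∃ f ∈ l, c ≤ f.wt
    · obtain ⟨f, hf, hfc⟩ := hbig
      obtain ⟨l₁, l₂, rfl⟩ := List.append_of_mem hf
      have h1 := act_mem hF j l₁ hv
      have h2 : ⁅act v l₁, f.val⁆ ∈ D F (j + 1) (a + degs l₁ + f.deg) :=
        mem_T h1 (hc _ (C_anti hF hfc _ f.mem))
      have h3 := act_mem hF (j + 1) l₂ h2
      rw [act_append, act_cons]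
      rw [show a + degs (l₁ ++ f :: l₂) = a + degs l₁ + f.deg + degs l₂ by simp [degs]; ring]
      exact h3
    push_neg at hbig
    have hlong : p - 1 ≤ l.length := by
      by_contra hlt
      push_neg at hlt
      have : wts l ≤ l.length * c := by
        have h := List.sum_le_card_nsmul (l.map fun f => f.wt + 1) c (fun x hx => by
          obtain ⟨f, hf, rfl⟩ := List.mem_map.mp hx
          exact hbig f hf)
        simpa [wts] using h
      have h2 : l.length * c ≤ (p - 2) * c := Nat.mul_le_mul_right _ (by omega)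
      omega
    -- invariance under permutations
    have perm : ∀ l₁ l₂ : List (Fac F), List.Perm l₁ l₂ → ∀ pre : List (Fac F),
        (pre ++ l₁).length = m → (p - 2) * c < wts (pre ++ l₁) →
        (act v (pre ++ l₁) ∈ D F (j + 1) (a + degs (pre ++ l₁)) ↔
          act v (pre ++ l₂) ∈ D F (j + 1) (a + degs (pre ++ l₂))) := by
      intro l₁ l₂ hp
      induction hp with
      | nil => intro pre _ _; exact Iff.rfl
      | cons x _ ihp =>
        intro pre hm hw'
        have := ihp (pre ++ [x]) (by simpa using hm) (by simpa using hw')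
        simpa using this
      | swap x y t =>
        intro pre hm hw'
        let z : Fac F := ⟨y.wt + x.wt + 1, y.deg + x.deg, ⁅y.val, x.val⁆, C_bracket _ _ y.mem x.mem⟩
        have hz := ih (pre ++ z :: t).length (by simp at hm ⊢; omega) (pre ++ z :: t) rfl (by simp)
          (by simp [wts, z] at hw' ⊢; omega) hv
        have e : act v (pre ++ z :: t) = act v (pre ++ y :: x :: t) - act v (pre ++ x :: y :: t) := by
          simp only [act_append, act_cons, ← act_sub]
          congr 1
          show ⁅act v pre, ⁅y.val, x.val⁆⁆ = _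
          rw [leibniz_lie, ← lie_skew y.val ⁅act v pre, x.val⁆]
          abel
        have d1 : degs (pre ++ x :: y :: t) = degs (pre ++ y :: x :: t) := by simp [degs]; ring
        have d2 : degs (pre ++ z :: t) = degs (pre ++ y :: x :: t) := by simp [degs, z]; ring
        rw [e, d2] at hz
        rw [d1]
        constructor
        · intro h; simpa using sub_mem h hz
        · intro h; simpa using add_mem hz h
      | @trans l₁ l₂ l₃ h₁ _ ih₁ ih₂ =>
        intro pre hm hw'
        refine (ih₁ pre hm hw').trans (ih₂ pre ?_ ?_)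
        · simpa [h₁.length_eq] using hm
        · have : wts (pre ++ l₁) = wts (pre ++ l₂) := by
            simp only [wts, List.map_append, List.sum_append, (h₁.map _).sum_eq]
          omega
    by_cases h0 : ∃ f ∈ l, f.deg = 0
    · obtain ⟨f, hf, hf0⟩ := h0
      obtain ⟨l₁, l₂, rfl⟩ := List.append_of_mem hf
      have : f.val = 0 := by
        have := C_anti hF (Nat.zero_le f.wt) _ f.mem
        rw [hf0] at this
        change f.val ∈ F 0 at this
        rwa [hF.zero, AddSubgroup.mem_bot] at this
      rw [act_append, act_cons, this, lie_zero, act_zero]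
      exact zero_mem _
    push_neg at h0
    obtain ⟨S, hS, hs⟩ := exists_sublist_sum (l.map Fac.deg) (by
      intro d hd; obtain ⟨f, hf, rfl⟩ := List.mem_map.mp hd; exact h0 f hf)
    have hSu : S = Finset.univ := Finset.eq_univ_of_card _ (by
      rw [ZMod.card]
      refine le_antisymm ((Finset.card_le_univ S).trans (ZMod.card p).le) ?_
      rw [List.length_map] at hS
      omega)
    obtain ⟨t, ht, hte⟩ := hs (-a) (hSu ▸ Finset.mem_univ _)
    obtain ⟨t', ht', rfl⟩ := List.sublist_map_iff.mp ht
    obtain ⟨r, hr⟩ := sublist_perm ht'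
    have key := perm _ _ hr [] (by simpa [hr.length_eq] using hlen) (by
      have : wts (t' ++ r) = wts l := (hr.map _).sum_eq
      simpa [this] using hw)
    simp only [List.nil_append] at key
    refine key.mp ?_
    have hzero : act v t' = 0 := by
      have := (hF.iterate j).zero ▸ (show act v t' ∈ D F j 0 by
        have h' := act_mem hF j t' hv
        rwa [show a + degs t' = 0 by rw [degs, hte, add_neg_cancel]] at h')
      exact AddSubgroup.mem_bot.mp this
    rw [act_append, hzero, act_zero]
    exact zero_mem _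

/-- Higman's bound. -/
def xi (p : ℕ) (s : ℕ) : ℕ := Finset.sum (Finset.range s) fun i => (p - 1) ^ i

theorem xi_succ (p s : ℕ) : xi p (s + 1) = (p - 1) * xi p s + 1 := by
  simp only [xi, Finset.sum_range_succ', pow_zero, Finset.mul_sum, pow_succ']

theorem higman_step {F : ZMod p → AddSubgroup M} (hF : Graded F) :
    ∀ (s : ℕ) (a : ZMod p), C F (xi p s) a ≤ D F s a := by
  intro s
  induction s with
  | zero => intro a; simp [xi, C, D]
  | succ s ih =>
    set c := xi p s
    have key : ∀ (r : ℕ) (l : List (Fac F)), (p - 2) * c < wts l + r → 0 < l.length + r →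
        ∀ a : ZMod p, ∀ v ∈ C F (c + r) a, act v l ∈ D F (s + 1) (a + degs l) := by
      intro r
      induction r with
      | zero =>
        intro l hw hl a v hv
        exact act_large hF ih l.length l rfl (fun e => by simp [e] at hl) (by simpa using hw) (ih a hv)
      | succ r ihr =>
        intro l hw hl a v hv
        refine (show ∀ z ∈ C F (c + r + 1) a, act z l ∈ D F (s + 1) (a + degs l) from fun z hz => ?_) v hv
        induction hz using AddSubgroup.closure_induction with
        | mem z hz =>
          obtain ⟨a₁, b, rfl, x, hx, y, hy, rfl⟩ := hz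
          have := ihr (⟨0, b, y, hy⟩ :: l) (by simp [wts] at hw ⊢; omega) (by simp) a₁ x hx
          rw [act_cons] at this
          rw [show a₁ + b + degs l = a₁ + degs (⟨0, b, y, hy⟩ :: l : List (Fac F)) by simp [degs]; ring]
          exact this
        | zero => rw [act_zero]; exact zero_mem _
        | add u w _ _ hu hw' =>
          have : act (u + w) l = act u l + act w l := by
            have h2 := act_sub (F := F) (u + w) w l
            rw [add_sub_cancel_right] at h2
            rw [h2, sub_add_cancel]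
          rw [this]; exact add_mem hu hw'
        | neg u _ hu =>
          have : act (-u) l = -act u l := by
            have h2 := act_sub (F := F) 0 u l
            rwa [zero_sub, act_zero, zero_sub] at h2
          rw [this]; exact neg_mem hu
    intro a v hv
    have e : xi p (s + 1) = c + ((p - 2) * c + 1) := by
      rw [xi_succ]
      have := (Fact.out : p.Prime).two_le
      have : p - 1 = p - 2 + 1 := by omega
      rw [this, add_mul, one_mul]; ring
    rw [e] at hv
    have := key ((p - 2) * c + 1) [] (by simp [wts]) (by simp) a v hv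
    simpa [degs, act] using this

theorem graded_nilpotent {F : ZMod p → AddSubgroup M} (hF : Graded F) (a : ZMod p) :
    C F (xi p (2 ^ (p - 1) - 1)) a = ⊥ :=
  le_bot_iff.mp ((higman_step hF _ a).trans (kreknin hF a).le)

theorem three_cases : ∀ a₁ b e : ZMod 3, a₁ = 0 ∨ b = 0 ∨ e = 0 ∨ a₁ + b = 0 ∨ a₁ + b + e = 0 ∨ (a₁ + e = 0 ∧ b + e = 0) := by
  decide

/-- For `p = 3` the class is at most two. -/
theorem graded_three {F : ZMod p → AddSubgroup M} (hp : p = 3) (hF : Graded F) (a : ZMod p) : C F 2 a = ⊥ := by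
  refine le_bot_iff.mp ((AddSubgroup.closure_le _).mpr ?_)
  rintro _ ⟨ab, e, rfl, u, hu, z, hz, rfl⟩
  refine bracket_closure_left (fun w hw => ?_) u hu
  obtain ⟨a₁, b, rfl, x, hx, y, hy, rfl⟩ := hw
  rw [AddSubgroup.mem_bot]
  change x ∈ F a₁ at hx
  have h0 : ∀ {d : ZMod p} {m : M}, d = 0 → m ∈ F d → m = 0 := fun hd hm => by
    subst hd; rwa [hF.zero, AddSubgroup.mem_bot] at hm
  have hcase : ∀ a₁ b e : ZMod p, a₁ = 0 ∨ b = 0 ∨ e = 0 ∨ a₁ + b = 0 ∨ a₁ + b + e = 0 ∨ (a₁ + e = 0 ∧ b + e = 0) := by
    subst hp; exact three_cases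
  rcases hcase a₁ b e with h | h | h | h | h | ⟨h, h'⟩
  · rw [h0 h hx]; simp
  · rw [h0 h hy]; simp
  · rw [h0 h hz]; simp
  · rw [h0 h (hF.mul _ _ _ hx _ hy)]; simp
  · exact h0 h (hF.mul _ _ _ (hF.mul _ _ _ hx _ hy) _ hz)
  · rw [lie_lie, h0 h' (hF.mul _ _ _ hy _ hz), h0 h (hF.mul _ _ _ hx _ hz)]; simp

end Cfsg.Agent.LieFpf
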