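import Mathlib
import Cfsg.Agent.Lib.LieFpf.Graded

/-!
# The associated Lie ring of a group and the class of a group with a fixed-point-free automorphism
-/

set_option autoImplicit false
set_option linter.style.haveILetI false

namespace Cfsg.Agent.LieFpf

open scoped commutatorElement TensorProduct

universe u

variable (G : Type u) [Group G]

/-- The lower central series. -/
abbrev gam (n : ℕ) : Subgroup G := (⊤ : Subgroup G).lowerCentralSeries n

theorem gam_succ (n : ℕ) : gam G (n + 1) = ⁅gam G n, (⊤ : Subgroup G)⁆ := rfl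

theorem gam_le {m n : ℕ} (h : m ≤ n) : gam G n ≤ gam G m := Subgroup.lowerCentralSeries_antitone _ h

instance gam_normal (n : ℕ) : (gam G n).Normal := inferInstance

theorem gam_commutator : ∀ j i : ℕ, ⁅gam G i, gam G j⁆ ≤ gam G (i + j + 1) := by
  intro j
  induction j with
  | zero => intro i; exact le_rfl
  | succ j ih =>
    intro i
    set N := gam G (i + (j + 1) + 1)
    let π := QuotientGroup.mk' N
    have key : ∀ H : Subgroup G, H ≤ N → H.map π = ⊥ := fun H hH => by
      rw [Subgroup.map_eq_bot_iff, QuotientGroup.ker_mk']; exact hH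
    have h := Subgroup.commutator_commutator_eq_bot_of_rotate
      (H₁ := (gam G j).map π) (H₂ := (⊤ : Subgroup G).map π) (H₃ := (gam G i).map π) ?_ ?_
    · rw [Subgroup.commutator_comm, gam_succ]
      rw [← Subgroup.map_commutator, ← Subgroup.map_commutator, Subgroup.map_eq_bot_iff,
        QuotientGroup.ker_mk'] at h
      exact h
    · rw [← Subgroup.map_commutator, ← Subgroup.map_commutator]
      refine key _ ?_
      rw [Subgroup.commutator_comm ⊤ (gam G i), ← gam_succ]
      exact (ih (i + 1)).trans (gam_le G (by omega))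
    · rw [← Subgroup.map_commutator, ← Subgroup.map_commutator]
      refine key _ ((Subgroup.commutator_mono (ih i) le_rfl).trans ?_)
      rw [← gam_succ]
      exact gam_le G (by omega)

theorem gam_comm_mem {i j : ℕ} {x y : G} (hx : x ∈ gam G i) (hy : y ∈ gam G j) :
    ⁅x, y⁆ ∈ gam G (i + j + 1) :=
  gam_commutator G j i (Subgroup.commutator_mem_commutator hx hy)

/-- A section of the lower central series. -/
def Sec (n : ℕ) : Type u := ↥(gam G n) ⧸ (gam G (n + 1)).subgroupOf (gam G n)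

instance Sec.group (n : ℕ) : Group (Sec G n) :=
  inferInstanceAs (Group (↥(gam G n) ⧸ (gam G (n + 1)).subgroupOf (gam G n)))

/-- The quotient map. -/
def sec (n : ℕ) : ↥(gam G n) →* Sec G n := QuotientGroup.mk' _

theorem sec_surjective (n : ℕ) : Function.Surjective (sec G n) := QuotientGroup.mk'_surjective _

theorem sec_eq_one {n : ℕ} (x : ↥(gam G n)) : sec G n x = 1 ↔ (x : G) ∈ gam G (n + 1) :=
  (QuotientGroup.eq_one_iff x).trans Subgroup.mem_subgroupOf

theorem sec_eq {n : ℕ} {x y : ↥(gam G n)} : sec G n x = sec G n y ↔ (x : G)⁻¹ * y ∈ gam G (n + 1) :=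
  (QuotientGroup.eq (s := (gam G (n + 1)).subgroupOf (gam G n))).trans Subgroup.mem_subgroupOf

instance Sec.commGroup (n : ℕ) : CommGroup (Sec G n) :=
  { Sec.group G n with
    mul_comm := fun a b => by
      obtain ⟨x, rfl⟩ := sec_surjective G n a
      obtain ⟨y, rfl⟩ := sec_surjective G n b
      rw [← map_mul, ← map_mul, sec_eq]
      have h := gam_le G (show n + 1 ≤ n + n + 1 by omega) (gam_comm_mem G (inv_mem y.2) (inv_mem x.2))
      rw [commutatorElement_def, inv_inv, inv_inv] at h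
      simpa [mul_assoc] using h }

variable (N : ℕ)

/-- The truncated associated Lie ring. -/
abbrev Gr : Type u := (n : Fin N) → Additive (Sec G n)

open scoped Classical in
/-- The class of `x ∈ γ_m` in the `m`-th component. -/
noncomputable def iota (m : ℕ) (x : G) : Gr G N := fun n =>
  if h : x ∈ gam G n ∧ (n : ℕ) = m then Additive.ofMul (sec G n ⟨x, h.1⟩) else 0

variable {G N}

theorem iota_same {n : Fin N} {x : G} (hx : x ∈ gam G n) :
    iota G N n x n = Additive.ofMul (sec G n ⟨x, hx⟩) := by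
  rw [iota, dif_pos ⟨hx, rfl⟩]

theorem iota_ne {m : ℕ} {n : Fin N} (h : (n : ℕ) ≠ m) (x : G) : iota G N m x n = 0 := by
  rw [iota, dif_neg fun hh => h hh.2]

theorem iota_mul {m : ℕ} {x y : G} (hx : x ∈ gam G m) (hy : y ∈ gam G m) :
    iota G N m (x * y) = iota G N m x + iota G N m y := by
  funext n
  by_cases h : (n : ℕ) = m
  · subst h
    rw [Pi.add_apply, iota_same (mul_mem hx hy), iota_same hx, iota_same hy, ← ofMul_mul, ← map_mul]
    rfl
  · simp [iota_ne h]

theorem iota_deep {m : ℕ} {x : G} (hx : x ∈ gam G (m + 1)) : iota G N m x = 0 := by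
  funext n
  by_cases h : (n : ℕ) = m
  · subst h
    rw [iota_same (gam_le G (Nat.le_succ _) hx), (sec_eq_one G _).mpr hx]
    rfl
  · simp [iota_ne h]

theorem iota_one (m : ℕ) : iota G N m (1 : G) = 0 := iota_deep (one_mem _)

theorem iota_inv {m : ℕ} {x : G} (hx : x ∈ gam G m) : iota G N m x⁻¹ = - iota G N m x := by
  rw [eq_neg_iff_add_eq_zero, ← iota_mul (inv_mem hx) hx, inv_mul_cancel, iota_one]

theorem iota_pow {m : ℕ} {x : G} (hx : x ∈ gam G m) (k : ℕ) : iota G N m (x ^ k) = k • iota G N m x := by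
  induction k with
  | zero => rw [pow_zero, iota_one, zero_nsmul]
  | succ k ih => rw [pow_succ, iota_mul (pow_mem hx k) hx, ih, succ_nsmul]

theorem mem_of_iota_eq_zero {m : ℕ} (hm : m < N) {x : G} (hx : x ∈ gam G m) (h : iota G N m x = 0) :
    x ∈ gam G (m + 1) := by
  have h1 := congrFun h ⟨m, hm⟩
  rw [iota_same (n := ⟨m, hm⟩) hx] at h1
  exact (sec_eq_one G _).mp h1

variable (G N)

/-- The generators of the associated ring. -/
def gens : Set (Gr G N) := {f | ∃ m : ℕ, ∃ x ∈ gam G m, iota G N m x = f}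

theorem closure_gens : AddSubgroup.closure (gens G N) = ⊤ := by
  classical
  refine top_le_iff.mp fun f _ => ?_
  rw [← Finset.univ_sum_single f]
  refine sum_mem fun n _ => AddSubgroup.subset_closure ?_
  obtain ⟨x, hx⟩ := sec_surjective G n (Additive.toMul (f n))
  refine ⟨n, x, x.2, funext fun k => ?_⟩
  by_cases h : k = n
  · subst h
    rw [Pi.single_eq_same, iota_same x.2, hx, ofMul_toMul]
  · rw [Pi.single_eq_of_ne h, iota_ne fun e => h (Fin.ext e)]

theorem gr_induction {P : Gr G N → Prop} (hg : ∀ m, ∀ x ∈ gam G m, P (iota G N m x)) (h0 : P 0)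
    (ha : ∀ a b, P a → P b → P (a + b)) (hn : ∀ a, P a → P (-a)) (f : Gr G N) : P f := by
  have : f ∈ AddSubgroup.closure (gens G N) := closure_gens G N ▸ AddSubgroup.mem_top f
  induction this using AddSubgroup.closure_induction with
  | mem x hx => obtain ⟨m, y, hy, rfl⟩ := hx; exact hg m y hy
  | zero => exact h0
  | add a b _ _ ha' hb' => exact ha a b ha' hb'
  | neg a _ ha' => exact hn a ha'

variable {G}

theorem comm_congr_left {i j : ℕ} {a a' b : G} (ha : a⁻¹ * a' ∈ gam G (i + 1))
    (hb : b ∈ gam G j) : ⁅a, b⁆⁻¹ * ⁅a', b⁆ ∈ gam G (i + j + 1 + 1) := by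
  have h : ⁅a⁻¹ * a', b⁆ ∈ gam G (i + j + 1 + 1) := gam_le G (by omega) (gam_comm_mem G ha hb)
  have e : ⁅a, b⁆⁻¹ * ⁅a', b⁆ = ⁅a, b⁆⁻¹ * (a * ⁅a⁻¹ * a', b⁆ * a⁻¹) * ⁅a, b⁆ := by
    simp only [commutatorElement_def]; group
  rw [e]
  have h1 := (gam_normal G (i + j + 1 + 1)).conj_mem _ ((gam_normal G (i + j + 1 + 1)).conj_mem _ h a) ⁅a, b⁆⁻¹
  simpa using h1

theorem comm_congr {i j : ℕ} {a a' b b' : G} (ha : a⁻¹ * a' ∈ gam G (i + 1)) (hb : b⁻¹ * b' ∈ gam G (j + 1))
    (ha' : a' ∈ gam G i) (hbm : b ∈ gam G j) :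
    ⁅a, b⁆⁻¹ * ⁅a', b'⁆ ∈ gam G (i + j + 1 + 1) := by
  have h1 := comm_congr_left ha hbm
  have h2 := comm_congr_left (i := j) (j := i) hb ha'
  rw [show j + i + 1 + 1 = i + j + 1 + 1 by omega, ← commutatorElement_inv a' b, ← commutatorElement_inv a' b',
    inv_inv] at h2
  have h3 := (gam_normal G (i + j + 1 + 1)).conj_mem _ (inv_mem h2) ⁅a', b⁆⁻¹
  have e : ⁅a, b⁆⁻¹ * ⁅a', b'⁆ = (⁅a, b⁆⁻¹ * ⁅a', b⁆) * (⁅a', b⁆⁻¹ * ⁅a', b'⁆) := by group
  rw [e]
  refine mul_mem h1 ?_
  have e2 : ⁅a', b⁆⁻¹ * ⁅a', b'⁆ = ⁅a', b⁆⁻¹ * (⁅a', b⁆ * ⁅a', b'⁆⁻¹)⁻¹ * (⁅a', b⁆⁻¹)⁻¹ := by group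
  rw [e2]; exact h3

variable (G)

/-- The bracket of two sections. -/
def br (i j n : ℕ) (h : i + j + 1 = n) : Sec G i → Sec G j → Sec G n :=
  Quotient.lift₂ (fun a b => sec G n ⟨⁅(a : G), (b : G)⁆, h ▸ gam_comm_mem G a.2 b.2⟩)
    fun a b a' b' ha hb => by
      have ha' := Subgroup.mem_subgroupOf.mp (QuotientGroup.leftRel_apply.mp ha)
      have hb' := Subgroup.mem_subgroupOf.mp (QuotientGroup.leftRel_apply.mp hb)
      rw [sec_eq]
      subst h
      exact comm_congr ha' hb' a'.2 b.2

theorem br_sec {i j n : ℕ} (h : i + j + 1 = n) (a : ↥(gam G i)) (b : ↥(gam G j)) :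
    br G i j n h (sec G i a) (sec G j b) = sec G n ⟨⁅(a : G), (b : G)⁆, h ▸ gam_comm_mem G a.2 b.2⟩ := rfl

theorem br_mul_left {i j n : ℕ} (h : i + j + 1 = n) (a a' : Sec G i) (b : Sec G j) :
    br G i j n h (a * a') b = br G i j n h a b * br G i j n h a' b := by
  obtain ⟨x, rfl⟩ := sec_surjective G i a
  obtain ⟨x', rfl⟩ := sec_surjective G i a'
  obtain ⟨y, rfl⟩ := sec_surjective G j b
  subst h
  rw [← map_mul, br_sec, br_sec, br_sec, mul_comm (sec G _ _), ← map_mul, sec_eq]
  have h1 : ⁅(x : G), ⁅(x' : G), (y : G)⁆⁆ ∈ gam G (i + j + 1 + 1) :=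
    gam_le G (by omega) (gam_comm_mem G x.2 (gam_comm_mem G x'.2 y.2))
  have h2 := (gam_normal G (i + j + 1 + 1)).conj_mem _ (inv_mem h1) (⁅(x' : G), (y : G)⁆ * ⁅(x : G), (y : G)⁆)⁻¹
  show (⁅((x * x' : ↥(gam G i)) : G), (y : G)⁆)⁻¹ * (⁅(x' : G), (y : G)⁆ * ⁅(x : G), (y : G)⁆) ∈ _
  simp only [Subgroup.coe_mul, commutatorElement_def] at h2 ⊢
  simpa [mul_assoc] using h2

theorem br_mul_right {i j n : ℕ} (h : i + j + 1 = n) (a : Sec G i) (b b' : Sec G j) :
    br G i j n h a (b * b') = br G i j n h a b * br G i j n h a b' := by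
  obtain ⟨x, rfl⟩ := sec_surjective G i a
  obtain ⟨y, rfl⟩ := sec_surjective G j b
  obtain ⟨y', rfl⟩ := sec_surjective G j b'
  subst h
  rw [← map_mul, br_sec, br_sec, br_sec, ← map_mul, sec_eq]
  have h1 : ⁅(y : G), ⁅(x : G), (y' : G)⁆⁆ ∈ gam G (i + j + 1 + 1) :=
    gam_le G (by omega) (gam_comm_mem G y.2 (gam_comm_mem G x.2 y'.2))
  have h2 := (gam_normal G (i + j + 1 + 1)).conj_mem _ (inv_mem h1) (⁅(x : G), (y' : G)⁆⁻¹)
  show (⁅(x : G), ((y * y' : ↥(gam G j)) : G)⁆)⁻¹ * (⁅(x : G), (y : G)⁆ * ⁅(x : G), (y' : G)⁆) ∈ _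
  simp only [Subgroup.coe_mul, commutatorElement_def] at h2 ⊢
  simpa [mul_assoc] using h2


open scoped Classical in
/-- The bracket. -/
noncomputable def gbr (f g : Gr G N) : Gr G N := fun n =>
  ∑ i : Fin N, ∑ j : Fin N, if h : (i : ℕ) + j + 1 = n then
    Additive.ofMul (br G i j n h (Additive.toMul (f i)) (Additive.toMul (g j))) else 0

variable {G N}

theorem gbr_add_left (f f' g : Gr G N) : gbr G N (f + f') g = gbr G N f g + gbr G N f' g := by
  funext n
  simp only [gbr, Pi.add_apply, ← Finset.sum_add_distrib]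
  refine Finset.sum_congr rfl fun i _ => Finset.sum_congr rfl fun j _ => ?_
  split_ifs with h
  · rw [toMul_add, br_mul_left, ofMul_mul]
  · rw [add_zero]

theorem gbr_add_right (f g g' : Gr G N) : gbr G N f (g + g') = gbr G N f g + gbr G N f g' := by
  funext n
  simp only [gbr, Pi.add_apply, ← Finset.sum_add_distrib]
  refine Finset.sum_congr rfl fun i _ => Finset.sum_congr rfl fun j _ => ?_
  split_ifs with h
  · rw [toMul_add, br_mul_right, ofMul_mul]
  · rw [add_zero]

theorem br_one_left {i j n : ℕ} (h : i + j + 1 = n) (b : Sec G j) : br G i j n h 1 b = 1 := by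
  have := br_mul_left G h 1 1 b
  rwa [one_mul, left_eq_mul] at this

theorem br_one_right {i j n : ℕ} (h : i + j + 1 = n) (a : Sec G i) : br G i j n h a 1 = 1 := by
  have := br_mul_right G h a 1 1
  rwa [one_mul, left_eq_mul] at this

theorem gbr_iota {i j : ℕ} {x y : G} (hx : x ∈ gam G i) (hy : y ∈ gam G j) :
    gbr G N (iota G N i x) (iota G N j y) = iota G N (i + j + 1) ⁅x, y⁆ := by
  classical
  funext n
  by_cases hn : (n : ℕ) = i + j + 1
  · have hi : i < N := by have := n.2; omega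
    have hj : j < N := by have := n.2; omega
    rw [gbr, Finset.sum_eq_single (⟨i, hi⟩ : Fin N), Finset.sum_eq_single (⟨j, hj⟩ : Fin N)]
    · rw [dif_pos hn.symm, iota_same (n := ⟨i, hi⟩) hx, iota_same (n := ⟨j, hj⟩) hy, toMul_ofMul, toMul_ofMul,
        br_sec]
      rw [iota, dif_pos ⟨hn ▸ gam_comm_mem G hx hy, hn⟩]
    · intro b _ hb
      rw [iota_ne (m := j) fun e => hb (Fin.ext e)]
      split_ifs <;> simp [br_one_right]
    · simp
    · intro a _ ha
      refine Finset.sum_eq_zero fun b _ => ?_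
      rw [iota_ne (m := i) fun e => ha (Fin.ext e)]
      split_ifs <;> simp [br_one_left]
    · simp
  · rw [iota_ne hn, gbr]
    refine Finset.sum_eq_zero fun a _ => Finset.sum_eq_zero fun b _ => ?_
    split_ifs with h
    · by_cases ha : (a : ℕ) = i
      · by_cases hb : (b : ℕ) = j
        · omega
        · rw [iota_ne (m := j) hb]; simp [br_one_right]
      · rw [iota_ne (m := i) ha]; simp [br_one_left]
    · rfl

theorem gbr_zero_left (g : Gr G N) : gbr G N 0 g = 0 := by
  have := gbr_add_left 0 0 g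
  rwa [add_zero, left_eq_add] at this

theorem gbr_zero_right (g : Gr G N) : gbr G N g 0 = 0 := by
  have := gbr_add_right g 0 0
  rwa [add_zero, left_eq_add] at this

theorem gbr_neg_left (f g : Gr G N) : gbr G N (-f) g = - gbr G N f g := by
  rw [eq_neg_iff_add_eq_zero, ← gbr_add_left, neg_add_cancel, gbr_zero_left]

theorem gbr_neg_right (f g : Gr G N) : gbr G N f (-g) = - gbr G N f g := by
  rw [eq_neg_iff_add_eq_zero, ← gbr_add_right, neg_add_cancel, gbr_zero_right]

theorem gbr_skew (f g : Gr G N) : gbr G N f g + gbr G N g f = 0 := by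
  induction f using gr_induction G N with
  | hg i x hx =>
    induction g using gr_induction G N with
    | hg j y hy =>
      rw [gbr_iota hx hy, gbr_iota hy hx, show j + i + 1 = i + j + 1 by omega, ← iota_mul (gam_comm_mem G hx hy)
        (by rw [show i + j + 1 = j + i + 1 by omega]; exact gam_comm_mem G hy hx), ← commutatorElement_inv x y,
        mul_inv_cancel, iota_one]
    | h0 => simp [gbr_zero_left, gbr_zero_right]
    | ha a b ha hb => rw [gbr_add_left, gbr_add_right, add_add_add_comm, ha, hb, add_zero]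
    | hn a ha => rw [gbr_neg_left, gbr_neg_right, ← neg_add, ha, neg_zero]
  | h0 => simp [gbr_zero_left, gbr_zero_right]
  | ha a b ha hb => rw [gbr_add_left, gbr_add_right, add_add_add_comm, ha, hb, add_zero]
  | hn a ha => rw [gbr_neg_left, gbr_neg_right, ← neg_add, ha, neg_zero]

theorem gbr_self (f : Gr G N) : gbr G N f f = 0 := by
  induction f using gr_induction G N with
  | hg i x hx => rw [gbr_iota hx hx, commutatorElement_self, iota_one]
  | h0 => exact gbr_zero_left 0
  | ha a b ha hb =>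
    rw [gbr_add_left, gbr_add_right, gbr_add_right, ha, hb, zero_add, add_zero, gbr_skew]
  | hn a ha => rw [gbr_neg_left, gbr_neg_right, neg_neg, ha]

theorem hallWitt (x y z : G) :
    ⁅⁅x, y⁆, y * z * y⁻¹⁆ * ⁅⁅y, z⁆, z * x * z⁻¹⁆ * ⁅⁅z, x⁆, x * y * x⁻¹⁆ = 1 := by
  simp only [commutatorElement_def]; group

theorem gbr_cyclic {i j k : ℕ} {x y z : G} (hx : x ∈ gam G i) (hy : y ∈ gam G j) (hz : z ∈ gam G k) :
    gbr G N (gbr G N (iota G N i x) (iota G N j y)) (iota G N k z) +
      gbr G N (gbr G N (iota G N j y) (iota G N k z)) (iota G N i x) +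
      gbr G N (gbr G N (iota G N k z) (iota G N i x)) (iota G N j y) = 0 := by
  have conj : ∀ {a b : ℕ} {u v : G}, u ∈ gam G a → v ∈ gam G b → iota G N b (u * v * u⁻¹) = iota G N b v := by
    intro a b u v hu hv
    rw [show u * v * u⁻¹ = ⁅u, v⁆ * v by rw [commutatorElement_def]; group,
      iota_mul (gam_le G (by omega) (gam_comm_mem G hu hv)) hv,
      iota_deep (gam_le G (by omega) (gam_comm_mem G hu hv)), zero_add]
  have cm : ∀ {a b : ℕ} {u v : G}, u ∈ gam G a → v ∈ gam G b → u * v * u⁻¹ ∈ gam G b :=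
    fun {a b u v} _ hv => (gam_normal G b).conj_mem v hv u
  rw [gbr_iota hx hy, gbr_iota hy hz, gbr_iota hz hx, ← conj hy hz, ← conj hz hx, ← conj hx hy]
  rw [gbr_iota (gam_comm_mem G hx hy) (cm hy hz), gbr_iota (gam_comm_mem G hy hz) (cm hz hx),
    gbr_iota (gam_comm_mem G hz hx) (cm hx hy)]
  set n := i + j + 1 + k + 1 with hn
  rw [show j + k + 1 + i + 1 = n by omega, show k + i + 1 + j + 1 = n by omega]
  have m1 : ⁅⁅x, y⁆, y * z * y⁻¹⁆ ∈ gam G n := gam_comm_mem G (gam_comm_mem G hx hy) (cm hy hz)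
  have m2 : ⁅⁅y, z⁆, z * x * z⁻¹⁆ ∈ gam G n :=
    gam_le G (by omega) (gam_comm_mem G (gam_comm_mem G hy hz) (cm hz hx))
  have m3 : ⁅⁅z, x⁆, x * y * x⁻¹⁆ ∈ gam G n :=
    gam_le G (by omega) (gam_comm_mem G (gam_comm_mem G hz hx) (cm hx hy))
  rw [← iota_mul m1 m2, ← iota_mul (mul_mem m1 m2) m3, hallWitt, iota_one]

theorem gbr_leibniz (f g h : Gr G N) :
    gbr G N f (gbr G N g h) = gbr G N (gbr G N f g) h + gbr G N g (gbr G N f h) := by
  have sk : ∀ a b : Gr G N, gbr G N a b = - gbr G N b a := fun a b => eq_neg_iff_add_eq_zero.mpr (gbr_skew a b)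
  induction f using gr_induction G N with
  | hg i x hx =>
    induction g using gr_induction G N with
    | hg j y hy =>
      induction h using gr_induction G N with
      | hg k z hz =>
        have hJ := gbr_cyclic (N := N) hx hy hz
        rw [sk (iota G N i x) (gbr G N _ _), sk (iota G N j y) (gbr G N _ _),
          sk (iota G N i x) (iota G N k z), gbr_neg_left, neg_neg]
        rw [eq_comm, ← sub_eq_zero, sub_neg_eq_add]
        rw [← hJ]; abel
      | h0 => simp [gbr_zero_left, gbr_zero_right]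
      | ha a b ha hb => simp only [gbr_add_left, gbr_add_right, ha, hb]; abel
      | hn a ha => simp only [gbr_neg_left, gbr_neg_right, ha]; abel
    | h0 => simp [gbr_zero_left, gbr_zero_right]
    | ha a b ha hb => simp only [gbr_add_left, gbr_add_right, ha, hb]; abel
    | hn a ha => simp only [gbr_neg_left, gbr_neg_right, ha]; abel
  | h0 => simp [gbr_zero_left, gbr_zero_right]
  | ha a b ha hb => simp only [gbr_add_left, gbr_add_right, ha, hb]; abel
  | hn a ha => simp only [gbr_neg_left, gbr_neg_right, ha]; abel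

noncomputable instance grLieRing : LieRing (Gr G N) where
  bracket := gbr G N
  add_lie := gbr_add_left
  lie_add := gbr_add_right
  lie_self := gbr_self
  leibniz_lie := gbr_leibniz

theorem lie_iota {i j : ℕ} {x y : G} (hx : x ∈ gam G i) (hy : y ∈ gam G j) :
    ⁅iota G N i x, iota G N j y⁆ = iota G N (i + j + 1) ⁅x, y⁆ := gbr_iota hx hy

theorem card_smul_eq_zero (f : Gr G N) : Nat.card G • f = 0 := by
  induction f using gr_induction G N with
  | hg m x hx => rw [← iota_pow hx, pow_card_eq_one', iota_one]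
  | h0 => simp
  | ha a b ha hb => rw [smul_add, ha, hb, add_zero]
  | hn a ha => rw [smul_neg, ha, neg_zero]

variable (α : MulAut G)

theorem map_gam {n : ℕ} {x : G} (hx : x ∈ gam G n) : α x ∈ gam G n := by
  have h := Subgroup.map_lowerCentralSeries (S := (⊤ : Subgroup G)) α.toMonoidHom n
  rw [Subgroup.map_top_of_surjective _ α.surjective] at h
  have h1 := Subgroup.mem_map_of_mem α.toMonoidHom hx
  rw [h] at h1
  exact h1

/-- The restriction to a term of the series. -/
def resGam (n : ℕ) : ↥(gam G n) →* ↥(gam G n) where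
  toFun x := ⟨α x, map_gam α x.2⟩
  map_one' := Subtype.ext (map_one α)
  map_mul' _ _ := Subtype.ext (map_mul α _ _)

/-- The map on a section. -/
def secMap (n : ℕ) : Sec G n →* Sec G n :=
  QuotientGroup.map ((gam G (n + 1)).subgroupOf (gam G n)) ((gam G (n + 1)).subgroupOf (gam G n)) (resGam α n)
    fun _ hx => map_gam α (n := n + 1) hx

theorem secMap_sec (n : ℕ) (x : ↥(gam G n)) : secMap α n (sec G n x) = sec G n (resGam α n x) := rfl

variable (N)

/-- The map on the associated ring. -/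
noncomputable def grMap : Gr G N →+ Gr G N where
  toFun f n := Additive.ofMul (secMap α n (Additive.toMul (f n)))
  map_zero' := funext fun n => by simp
  map_add' f g := funext fun n => by simp

theorem grMap_iota {m : ℕ} {x : G} (hx : x ∈ gam G m) : grMap N α (iota G N m x) = iota G N m (α x) := by
  funext n
  by_cases h : (n : ℕ) = m
  · subst h
    rw [iota_same (map_gam α hx)]
    show Additive.ofMul (secMap α n (Additive.toMul (iota G N n x n))) = _
    rw [iota_same hx, toMul_ofMul, secMap_sec]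
    rfl
  · show Additive.ofMul (secMap α n (Additive.toMul (iota G N m x n))) = _
    rw [iota_ne h, iota_ne h]
    simp

theorem grMap_lie (f g : Gr G N) : grMap N α ⁅f, g⁆ = ⁅grMap N α f, grMap N α g⁆ := by
  induction f using gr_induction G N with
  | hg i x hx =>
    induction g using gr_induction G N with
    | hg j y hy =>
      rw [lie_iota hx hy, grMap_iota _ _ (gam_comm_mem G hx hy), grMap_iota _ _ hx, grMap_iota _ _ hy,
        lie_iota (map_gam α hx) (map_gam α hy), map_commutatorElement]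
    | h0 => simp
    | ha a b ha hb => simp [lie_add, ha, hb]
    | hn a ha => rw [lie_neg, map_neg, map_neg, ha, lie_neg]
  | h0 => simp
  | ha a b ha hb => simp [add_lie, ha, hb]
  | hn a ha => rw [neg_lie, map_neg, map_neg, ha, neg_lie]

theorem grMap_pow {p : ℕ} (hα : α ^ p = 1) : ∀ f : Gr G N, (grMap N α)^[p] f = f := by
  intro f
  induction f using gr_induction G N with
  | hg m x hx =>
    have : ∀ k : ℕ, (grMap N α)^[k] (iota G N m x) = iota G N m ((α ^ k) x) ∧ (α ^ k) x ∈ gam G m := by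
      intro k
      induction k with
      | zero => exact ⟨rfl, hx⟩
      | succ k ih =>
        rw [Function.iterate_succ_apply', ih.1, grMap_iota _ _ ih.2, pow_succ']
        exact ⟨rfl, map_gam α ih.2⟩
    rw [(this p).1, hα]; rfl
  | h0 => exact iterate_map_zero _ _
  | ha a b ha hb => rw [iterate_map_add, ha, hb]
  | hn a ha => rw [iterate_map_neg, ha]

theorem grMap_fixed [Finite G] (hfpf : ∀ g : G, α g = g → g = 1) (f : Gr G N) (hf : grMap N α f = f) : f = 0 := by
  funext n
  obtain ⟨x, hx⟩ := sec_surjective G n (Additive.toMul (f n))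
  have h1 : secMap α n (Additive.toMul (f n)) = Additive.toMul (f n) := congrArg Additive.toMul (congrFun hf n)
  rw [← hx, secMap_sec, eq_comm, sec_eq] at h1
  let φ : ↥(gam G (n + 1)) → ↥(gam G (n + 1)) := fun y =>
    ⟨(y : G)⁻¹ * α y, mul_mem (inv_mem y.2) (map_gam α y.2)⟩
  have hφ : Function.Injective φ := by
    intro y y' h
    have h' : (y : G)⁻¹ * α y = (y' : G)⁻¹ * α y' := congrArg Subtype.val h
    have : α ((y : G) * (y' : G)⁻¹) = (y : G) * (y' : G)⁻¹ := by
      rw [map_mul, map_inv]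
      calc α (y : G) * (α (y' : G))⁻¹ = (y : G) * ((y : G)⁻¹ * α y) * (α (y' : G))⁻¹ := by group
        _ = (y : G) * (y' : G)⁻¹ := by rw [h']; group
    exact Subtype.ext (mul_inv_eq_one.mp (hfpf _ this))
  obtain ⟨y, hy⟩ := (Finite.injective_iff_surjective.mp hφ) ⟨_, h1⟩
  have hy' : (y : G)⁻¹ * α y = (x : G)⁻¹ * α x := congrArg Subtype.val hy
  have : α ((x : G) * (y : G)⁻¹) = (x : G) * (y : G)⁻¹ := by
    rw [map_mul, map_inv]
    calc α (x : G) * (α (y : G))⁻¹ = (x : G) * ((x : G)⁻¹ * α x) * (α (y : G))⁻¹ := by group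
      _ = (x : G) * (y : G)⁻¹ := by rw [← hy']; group
  have hxy : (x : G) = y := mul_inv_eq_one.mp (hfpf _ this)
  have h0 : sec G n x = 1 := (sec_eq_one G x).mpr (hxy ▸ y.2)
  rw [← ofMul_toMul (f n), ← hx, h0]
  rfl

/-- The cyclotomic ring. -/
abbrev Cyc (p : ℕ) : Type := AdjoinRoot (Polynomial.cyclotomic p ℤ)

/-- The class of a group with a fixed-point-free automorphism of prime order is bounded by any bound for
`ℤ/p`-graded Lie rings with trivial zero component. -/
theorem class_bound [Finite G] [Group.IsNilpotent G] {p : ℕ} [Fact p.Prime] (hcop : (Nat.card G).Coprime p)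
    (hα : α ^ p = 1) (hfpf : ∀ g : G, α g = g → g = 1) (c : ℕ)
    (hc : ∀ (L : ZMod p → AddSubgroup (Cyc p ⊗[ℤ] Gr G (c + 1))), Graded L → ∀ a, C L c a = ⊥) :
    gam G c = ⊥ := by
  have hp : p.Prime := Fact.out
  let ω : Cyc p := AdjoinRoot.root _
  have hgeo : ∑ i ∈ Finset.range p, ω ^ i = 0 := by
    have h2 : (∑ i ∈ Finset.range p, Polynomial.X ^ i : Polynomial ℤ).eval₂
        (AdjoinRoot.of (Polynomial.cyclotomic p ℤ)) ω = 0 := by
      rw [← Polynomial.cyclotomic_prime]
      exact AdjoinRoot.eval₂_root _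
    simpa [Polynomial.eval₂_finsetSum, Polynomial.eval₂_pow, Polynomial.eval₂_X] using h2
  have hωp : ω ^ p = 1 := by
    have h := geom_sum_mul ω p
    rw [hgeo, zero_mul] at h
    exact (sub_eq_zero.mp h.symm)
  let Φ : Cyc p ⊗[ℤ] Gr G (c + 1) →ₗ[Cyc p] Cyc p ⊗[ℤ] Gr G (c + 1) :=
    (grMap (c + 1) α).toIntLinearMap.baseChange (Cyc p)
  have hΦt : ∀ (s : Cyc p) (m : Gr G (c + 1)), Φ (s ⊗ₜ m) = s ⊗ₜ grMap (c + 1) α m := fun s m => rfl
  have L0 : ∀ x : Cyc p ⊗[ℤ] Gr G (c + 1), ⁅x, (0 : Cyc p ⊗[ℤ] Gr G (c + 1))⁆ = 0 := fun x => lie_zero x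
  have La : ∀ x a b : Cyc p ⊗[ℤ] Gr G (c + 1), ⁅x, a + b⁆ = ⁅x, a⁆ + ⁅x, b⁆ := fun x a b => lie_add x a b
  have hΦlie : ∀ x y, Φ ⁅x, y⁆ = ⁅Φ x, Φ y⁆ := by
    intro x y
    induction x using TensorProduct.induction_on with
    | zero => simp
    | add a b ha hb => simp [add_lie, ha, hb]
    | tmul s m =>
      induction y using TensorProduct.induction_on with
      | zero => rw [L0, map_zero, L0]
      | add a b ha hb => rw [La, map_add, map_add, ha, hb, La]
      | tmul t m' =>
        rw [LieAlgebra.ExtendScalars.bracket_tmul, hΦt, hΦt, hΦt, grMap_lie,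
          LieAlgebra.ExtendScalars.bracket_tmul]
  have hbil : ∀ (s t : Cyc p) (x y : Cyc p ⊗[ℤ] Gr G (c + 1)), ⁅s • x, t • y⁆ = (s * t) • ⁅x, y⁆ := by
    intro s t x y
    induction x using TensorProduct.induction_on with
    | zero => rw [smul_zero, zero_lie, zero_lie, smul_zero]
    | add a b ha hb => rw [smul_add, add_lie, add_lie, smul_add, ha, hb]
    | tmul u m =>
      induction y using TensorProduct.induction_on with
      | zero => rw [smul_zero, L0, L0, smul_zero]
      | add a b ha hb => rw [smul_add, La, La, smul_add, ha, hb]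
      | tmul v m' =>
        simp only [TensorProduct.smul_tmul', smul_eq_mul, LieAlgebra.ExtendScalars.bracket_tmul]
        congr 1
        ring
  have hiter : ∀ (k : ℕ) (s : Cyc p) (m : Gr G (c + 1)), (Φ ^ k) (s ⊗ₜ m) = s ⊗ₜ ((grMap (c + 1) α)^[k] m) := by
    intro k
    induction k with
    | zero => intro s m; rfl
    | succ k ih => intro s m; rw [pow_succ', Module.End.mul_apply, ih, hΦt, Function.iterate_succ_apply']
  have hΦp : Φ ^ p = 1 := by
    refine LinearMap.ext fun x => ?_
    induction x using TensorProduct.induction_on with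
    | zero => simp
    | add a b ha hb => simp [ha, hb]
    | tmul s m => rw [hiter, grMap_pow _ _ hα]; rfl
  obtain ⟨r, hr⟩ : ∃ r : ℕ, ∀ m : Gr G (c + 1), r • p • m = m := by
    rcases eq_or_ne (Nat.card G) 1 with h1 | h1
    · refine ⟨0, fun m => ?_⟩
      have := card_smul_eq_zero m
      rw [h1, one_smul] at this
      simp [this]
    · obtain ⟨r, -, hr⟩ := Nat.exists_mul_mod_eq_one_of_coprime hcop.symm
        (by have := Nat.card_pos (α := G); omega)
      refine ⟨r, fun m => ?_⟩
      rw [← mul_smul, mul_comm, ← Nat.mod_add_div (p * r) (Nat.card G), hr, add_smul, one_smul, mul_comm,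
        mul_smul, card_smul_eq_zero, smul_zero, add_zero]
  have hr' : ∀ w : Cyc p ⊗[ℤ] Gr G (c + 1), r • p • w = w := by
    intro w
    induction w using TensorProduct.induction_on with
    | zero => simp
    | add a b ha hb => rw [smul_add, smul_add, ha, hb]
    | tmul s m => rw [← TensorProduct.tmul_smul, ← TensorProduct.tmul_smul, hr]
  let L : ZMod p → AddSubgroup (Cyc p ⊗[ℤ] Gr G (c + 1)) := fun a =>
    { carrier := {x | Φ x = ω ^ a.val • x}
      add_mem' := fun {x y} hx hy => show Φ (x + y) = _ by rw [map_add, hx, hy, smul_add]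
      zero_mem' := show Φ 0 = _ by rw [map_zero, smul_zero]
      neg_mem' := fun {x} hx => show Φ (-x) = _ by rw [map_neg, hx, smul_neg] }
  have hL : Graded L := by
    refine ⟨?_, fun a b x hx y hy => ?_⟩
    · refine (AddSubgroup.eq_bot_iff_forall _).mpr fun x hx => ?_
      have hx' : Φ x = x := by simpa [L] using hx
      have hfix : ∀ k : ℕ, (Φ ^ k) x = x := by
        intro k
        induction k with
        | zero => rfl
        | succ k ih => rw [pow_succ', Module.End.mul_apply, ih, hx']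
      have hsum : ∀ w : Cyc p ⊗[ℤ] Gr G (c + 1), ∑ k ∈ Finset.range p, (Φ ^ k) w = 0 := by
        intro w
        induction w using TensorProduct.induction_on with
        | zero => simp
        | add a b ha hb => simp [Finset.sum_add_distrib, ha, hb]
        | tmul s m =>
          simp only [hiter]
          rw [← TensorProduct.tmul_sum]
          have h0 : ∑ k ∈ Finset.range p, (grMap (c + 1) α)^[k] m = 0 := by
            refine grMap_fixed _ α hfpf _ ?_
            rw [map_sum]
            simp only [← Function.iterate_succ_apply' (grMap (c + 1) α)]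
            have h1 := Finset.sum_range_succ' (fun k => (grMap (c + 1) α)^[k] m) p
            rw [Finset.sum_range_succ, grMap_pow _ _ hα, Function.iterate_zero_apply] at h1
            exact (add_right_cancel h1).symm
          rw [h0, TensorProduct.tmul_zero]
      have := hsum x
      simp only [hfix, Finset.sum_const, Finset.card_range] at this
      rw [← hr' x, this, smul_zero]
    · show Φ ⁅x, y⁆ = _
      rw [hΦlie, show Φ x = _ from hx, show Φ y = _ from hy, hbil, ← pow_add,
        ZMod.val_add, ← pow_eq_pow_mod _ hωp]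
  have hzero : ∀ k, 0 < k → k < p → ∑ j ∈ Finset.range p, (ω ^ k) ^ j = 0 := by
    intro k hk hkp
    have hk' : (k : ZMod p) ≠ 0 := by
      rw [Ne, ZMod.natCast_eq_zero_iff]
      exact Nat.not_dvd_of_pos_of_lt hk hkp
    rw [← hgeo]
    refine Finset.sum_bij (fun j _ => ((k : ZMod p) * (j : ZMod p)).val) ?_ ?_ ?_ ?_
    · intro j _; exact Finset.mem_range.mpr (ZMod.val_lt _)
    · intro j₁ h₁ j₂ h₂ e
      have := mul_left_cancel₀ hk' (ZMod.val_injective p e)
      have e' := congrArg ZMod.val this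
      rwa [ZMod.val_natCast_of_lt (Finset.mem_range.mp h₁), ZMod.val_natCast_of_lt (Finset.mem_range.mp h₂)] at e'
    · intro b hb
      refine ⟨((k : ZMod p)⁻¹ * (b : ZMod p)).val, Finset.mem_range.mpr (ZMod.val_lt _), ?_⟩
      show ((k : ZMod p) * _).val = b
      rw [ZMod.natCast_val, ZMod.cast_id, ← mul_assoc, mul_inv_cancel₀ hk', one_mul,
        ZMod.val_natCast_of_lt (Finset.mem_range.mp hb)]
    · intro j _
      show (ω ^ k) ^ j = ω ^ ((k : ZMod p) * (j : ZMod p)).val
      rw [← Nat.cast_mul, ZMod.val_natCast, ← pow_eq_pow_mod _ hωp, pow_mul]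
  have htop : ∀ w : Cyc p ⊗[ℤ] Gr G (c + 1), w ∈ ⨆ a, L a := by
    intro w
    let P : ℕ → Cyc p ⊗[ℤ] Gr G (c + 1) := fun j => ∑ k ∈ Finset.range p, (ω ^ (j * k)) • (Φ ^ k) w
    have hP : ∀ j < p, P j ∈ ⨆ a, L a := by
      intro j hj
      refine AddSubgroup.mem_iSup_of_mem (-(j : ZMod p)) ?_
      show Φ (P j) = ω ^ (-(j : ZMod p)).val • P j
      have h1 : ω ^ j • Φ (P j) = P j := by
        simp only [P, map_sum, Finset.smul_sum, map_smul, smul_smul, ← pow_add, ← Module.End.mul_apply, ← pow_succ']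
        have h2 := Finset.sum_range_succ' (fun k => (ω ^ (j * k)) • (Φ ^ k) w) p
        rw [Finset.sum_range_succ, mul_zero, pow_zero, pow_zero, mul_comm j p, pow_mul, hωp, one_pow, hΦp] at h2
        rw [add_right_cancel h2]
        exact Finset.sum_congr rfl fun k _ => by rw [mul_add, mul_one, add_comm (j * k) j]
      conv_rhs => rw [← h1]
      rw [smul_smul, ← pow_add, pow_eq_pow_mod _ hωp]
      have : ((-(j : ZMod p)).val + j) % p = 0 := by
        rw [← ZMod.val_natCast, Nat.cast_add, ZMod.natCast_val, ZMod.cast_id, neg_add_cancel, ZMod.val_zero]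
      rw [this, pow_zero, one_smul]
    have hsum : ∑ j ∈ Finset.range p, P j = p • w := by
      simp only [P]
      rw [Finset.sum_comm, Finset.sum_eq_single 0]
      · simp
      · intro k hk hk0
        rw [← Finset.sum_smul]
        simp only [mul_comm _ k, pow_mul]
        rw [hzero k (Nat.pos_of_ne_zero hk0) (Finset.mem_range.mp hk), zero_smul]
      · intro h; exact absurd (Finset.mem_range.mpr hp.pos) h
    rw [← hr' w, ← hsum]
    exact nsmul_mem (sum_mem fun j hj => hP j (Finset.mem_range.mp hj)) r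
  have hser : ∀ n : ℕ, ∀ x ∈ gam G n, (1 : Cyc p) ⊗ₜ[ℤ] iota G (c + 1) n x ∈ ⨆ a, C L n a := by
    intro n
    induction n with
    | zero => intro x _; exact htop _
    | succ n ih =>
      intro x hx
      let H : Subgroup G :=
        { carrier := {y | y ∈ gam G (n + 1) ∧ (1 : Cyc p) ⊗ₜ[ℤ] iota G (c + 1) (n + 1) y ∈ ⨆ a, C L (n + 1) a}
          mul_mem' := fun {y z} hy hz => ⟨mul_mem hy.1 hz.1, by
            rw [iota_mul hy.1 hz.1, TensorProduct.tmul_add]; exact add_mem hy.2 hz.2⟩
          one_mem' := ⟨one_mem _, by rw [iota_one, TensorProduct.tmul_zero]; exact zero_mem _⟩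
          inv_mem' := fun {y} hy => ⟨inv_mem hy.1, by
            rw [iota_inv hy.1, TensorProduct.tmul_neg]; exact neg_mem hy.2⟩ }
      suffices gam G (n + 1) ≤ H from (this hx).2
      rw [gam_succ, Subgroup.commutator_le]
      intro y hy g _
      refine ⟨gam_comm_mem G hy (j := 0) (Subgroup.mem_top g), ?_⟩
      rw [show n + 1 = n + 0 + 1 from rfl, ← lie_iota (j := 0) hy (Subgroup.mem_top g),
        ← one_mul (1 : Cyc p), ← LieAlgebra.ExtendScalars.bracket_tmul]
      have hu := ih y hy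
      have hv := htop ((1 : Cyc p) ⊗ₜ[ℤ] iota G (c + 1) 0 g)
      generalize (1 : Cyc p) ⊗ₜ[ℤ] iota G (c + 1) n y = u at hu ⊢
      generalize (1 : Cyc p) ⊗ₜ[ℤ] iota G (c + 1) 0 g = v at hv ⊢
      refine AddSubgroup.iSup_induction (fun a => C L n a)
        (C := fun u => ⁅u, v⁆ ∈ ⨆ a, C L (n + 0 + 1) a) hu (fun a u hu => ?_) ?_ fun u₁ u₂ h₁ h₂ => ?_
      · refine AddSubgroup.iSup_induction L
          (C := fun v => ⁅u, v⁆ ∈ ⨆ a, C L (n + 0 + 1) a) hv (fun b v hv => ?_) ?_ fun v₁ v₂ h₁ h₂ => ?_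
        · exact AddSubgroup.mem_iSup_of_mem (a + b) (mem_C hu hv)
        · rw [L0]; exact zero_mem _
        · rw [La]; exact add_mem h₁ h₂
      · show ⁅(0 : Cyc p ⊗[ℤ] Gr G (c + 1)), v⁆ ∈ _
        rw [show ⁅(0 : Cyc p ⊗[ℤ] Gr G (c + 1)), v⁆ = 0 from zero_lie v]; exact zero_mem _
      · rw [show ⁅u₁ + u₂, v⁆ = ⁅u₁, v⁆ + ⁅u₂, v⁆ from add_lie u₁ u₂ v]; exact add_mem h₁ h₂
  have hle : gam G c ≤ gam G (c + 1) := by
    intro x hx
    have h := hser c x hx
    simp only [hc L hL, iSup_bot, AddSubgroup.mem_bot] at h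
    refine mem_of_iota_eq_zero (Nat.lt_succ_self c) hx ?_
    have hm : (Polynomial.cyclotomic p ℤ).Monic := Polynomial.cyclotomic.monic p ℤ
    let pb := AdjoinRoot.powerBasis' hm
    have hdim : 0 < pb.dim := by
      rw [show pb.dim = _ from AdjoinRoot.powerBasis'_dim hm, Polynomial.natDegree_cyclotomic]
      exact Nat.totient_pos.mpr hp.pos
    let ε : Cyc p →ₗ[ℤ] ℤ := pb.basis.coord ⟨0, hdim⟩
    have hε : ε 1 = 1 := by
      have : pb.basis ⟨0, hdim⟩ = 1 := by simp [PowerBasis.basis_eq_pow]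
      show pb.basis.coord ⟨0, hdim⟩ 1 = 1
      rw [show (1 : Cyc p) = pb.basis ⟨0, hdim⟩ from this.symm, Module.Basis.coord_apply, Module.Basis.repr_self,
        Finsupp.single_eq_same]
    have := congrArg (TensorProduct.lid ℤ (Gr G (c + 1)) ∘ ε.rTensor (Gr G (c + 1))) h
    simpa [hε] using this
  obtain ⟨n, hn⟩ := (Subgroup.isNilpotent_iff_lowerCentralSeries (S := (⊤ : Subgroup G))).mp inferInstance
  have hstable : ∀ k, gam G c ≤ gam G (c + k) := by
    intro k
    induction k with
    | zero => exact le_rfl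
    | succ k ih =>
      refine hle.trans ?_
      rw [gam_succ, show c + (k + 1) = (c + k) + 1 from rfl, gam_succ]
      exact Subgroup.commutator_mono ih le_rfl
  exact le_bot_iff.mp ((hstable n).trans ((gam_le G (Nat.le_add_left n c)).trans hn.le))

end Cfsg.Agent.LieFpf
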